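import Cfsg.Agent.H931.E6.Cross

/-!
# Symmetric functions on pairs with zero row sums (helper931)

`S14 f` : `f : Fin 7 → Fin 7 → K` symmetric, zero on the diagonal, row sums zero (dimension at least 14).
`rsum f`, `gsum f` : averages of `f` over `⟨(2 3 4 5 6)⟩` and its difference with the translate by `(0 1)(3 4 6 5)`.
-/

set_option autoImplicit false
set_option maxHeartbeats 1000000

namespace Cfsg.Agent.H931.E6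

open Equiv Equiv.Perm

variable {K V W : Type*} [Field K] [AddCommGroup V] [Module K V] [AddCommGroup W] [Module K W]

/-- symmetric functions with row sums zero -/
structure S14 (f : Fin 7 → Fin 7 → K) : Prop where
  diag : ∀ i, f i i = 0
  symm : ∀ i j, f i j = f j i
  row : ∀ i, ∑ j, f i j = 0

theorem S14.row' {f : Fin 7 → Fin 7 → K} (h : S14 f) (i : Fin 7) :
    f i 0 + f i 1 + f i 2 + f i 3 + f i 4 + f i 5 + f i 6 = 0 := by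
  rw [← h.row i, Fin.sum_univ_seven]

theorem S14.comp {f : Fin 7 → Fin 7 → K} (h : S14 f) (g : Perm (Fin 7)) : S14 fun i j => f (g i) (g j) :=
  ⟨fun i => h.diag _, fun i j => h.symm _ _, fun i => by
    rw [← h.row (g i)]
    exact Equiv.sum_comp g fun j => f (g i) j⟩

/-- `(2 3 4 5 6)^k` -/
def rt : Fin 5 → Fin 7 → Fin 7 := ![
  ![0, 1, 2, 3, 4, 5, 6],
  ![0, 1, 3, 4, 5, 6, 2],
  ![0, 1, 4, 5, 6, 2, 3],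
  ![0, 1, 5, 6, 2, 3, 4],
  ![0, 1, 6, 2, 3, 4, 5]]

/-- `(2 3 4 5 6)^k (0 1)(3 4 6 5)` -/
def tt : Fin 5 → Fin 7 → Fin 7 := ![
  ![1, 0, 2, 4, 6, 3, 5],
  ![1, 0, 3, 5, 2, 4, 6],
  ![1, 0, 4, 6, 3, 5, 2],
  ![1, 0, 5, 2, 4, 6, 3],
  ![1, 0, 6, 3, 5, 2, 4]]

/-- edges minus diagonals of the pentagon `2 3 4 5 6` -/
def dd : Fin 7 → Fin 7 → ℤ := ![
  ![0, 0, 0, 0, 0, 0, 0],
  ![0, 0, 0, 0, 0, 0, 0],
  ![0, 0, 0, 1, -1, -1, 1],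
  ![0, 0, 1, 0, 1, -1, -1],
  ![0, 0, -1, 1, 0, 1, -1],
  ![0, 0, -1, -1, 1, 0, 1],
  ![0, 0, 1, -1, -1, 1, 0]]

/-- the other basis vector of the functions invariant under `(2 3 4 5 6)` -/
def aa : Fin 7 → Fin 7 → ℤ := ![
  ![0, 5, -1, -1, -1, -1, -1],
  ![5, 0, -1, -1, -1, -1, -1],
  ![-1, -1, 0, 0, 1, 1, 0],
  ![-1, -1, 0, 0, 0, 1, 1],
  ![-1, -1, 1, 0, 0, 0, 1],
  ![-1, -1, 1, 1, 0, 0, 0],
  ![-1, -1, 0, 1, 1, 0, 0]]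

/-- edges minus diagonals of a pentagon -/
def pent {M : Type*} [AddCommGroup M] (b : Fin 7 → Fin 7 → M) (i j k l m : Fin 7) : M :=
  b i j + b j k + b k l + b l m + b m i - (b i k + b j l + b k m + b l i + b m j)

/-- alternating sum over a 4-cycle -/
def alt {M : Type*} [AddCommGroup M] (b : Fin 7 → Fin 7 → M) (i j k l : Fin 7) : M :=
  b i j - b j k + b k l - b l i

theorem four_alt (b : Fin 7 → Fin 7 → W) (hs : ∀ i j, b i j = b j i) (i j k l m : Fin 7) :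
    (4 : K) • alt b i j k l = -pent b i j k l m + pent b i j k m l + (3 : K) • pent b i j l k m - pent b i j l m k -
      pent b i j m k l + (3 : K) • pent b i j m l k := by
  simp only [alt, pent, hs k i, hs k j, hs l i, hs l j, hs l k, hs m i, hs m j, hs m k, hs m l]
  module

theorem gsum {f : Fin 7 → Fin 7 → K} (h : S14 f) (i j : Fin 7) :
    ∑ k, f (rt k i) (rt k j) - ∑ k, f (tt k i) (tt k j) = pent f 2 3 4 5 6 * (dd i j : K) := by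
  rw [Fin.sum_univ_five, Fin.sum_univ_five, pent]
  fin_cases i <;> fin_cases j
  · show f 0 0 + f 0 0 + f 0 0 + f 0 0 + f 0 0 - (f 1 1 + f 1 1 + f 1 1 + f 1 1 + f 1 1) = (f 2 3 + f 3 4 + f 4 5 + f 5 6 + f 6 2 - (f 2 4 + f 3 5 + f 4 6 + f 5 2 + f 6 3)) * (((0) : ℤ) : K)
    push_cast
    linear_combination (5) * h.diag 0 + (-5) * h.diag 1
  · show f 0 1 + f 0 1 + f 0 1 + f 0 1 + f 0 1 - (f 1 0 + f 1 0 + f 1 0 + f 1 0 + f 1 0) = (f 2 3 + f 3 4 + f 4 5 + f 5 6 + f 6 2 - (f 2 4 + f 3 5 + f 4 6 + f 5 2 + f 6 3)) * (((0) : ℤ) : K)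
    push_cast
    linear_combination (-5) * h.symm 1 0
  · show f 0 2 + f 0 3 + f 0 4 + f 0 5 + f 0 6 - (f 1 2 + f 1 3 + f 1 4 + f 1 5 + f 1 6) = (f 2 3 + f 3 4 + f 4 5 + f 5 6 + f 6 2 - (f 2 4 + f 3 5 + f 4 6 + f 5 2 + f 6 3)) * (((0) : ℤ) : K)
    push_cast
    linear_combination (1) * h.row' 0 + (-1) * h.row' 1 + (-1) * h.diag 0 + (1) * h.symm 1 0 + (1) * h.diag 1
  · show f 0 3 + f 0 4 + f 0 5 + f 0 6 + f 0 2 - (f 1 4 + f 1 5 + f 1 6 + f 1 2 + f 1 3) = (f 2 3 + f 3 4 + f 4 5 + f 5 6 + f 6 2 - (f 2 4 + f 3 5 + f 4 6 + f 5 2 + f 6 3)) * (((0) : ℤ) : K)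
    push_cast
    linear_combination (1) * h.row' 0 + (-1) * h.row' 1 + (-1) * h.diag 0 + (1) * h.symm 1 0 + (1) * h.diag 1
  · show f 0 4 + f 0 5 + f 0 6 + f 0 2 + f 0 3 - (f 1 6 + f 1 2 + f 1 3 + f 1 4 + f 1 5) = (f 2 3 + f 3 4 + f 4 5 + f 5 6 + f 6 2 - (f 2 4 + f 3 5 + f 4 6 + f 5 2 + f 6 3)) * (((0) : ℤ) : K)
    push_cast
    linear_combination (1) * h.row' 0 + (-1) * h.row' 1 + (-1) * h.diag 0 + (1) * h.symm 1 0 + (1) * h.diag 1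
  · show f 0 5 + f 0 6 + f 0 2 + f 0 3 + f 0 4 - (f 1 3 + f 1 4 + f 1 5 + f 1 6 + f 1 2) = (f 2 3 + f 3 4 + f 4 5 + f 5 6 + f 6 2 - (f 2 4 + f 3 5 + f 4 6 + f 5 2 + f 6 3)) * (((0) : ℤ) : K)
    push_cast
    linear_combination (1) * h.row' 0 + (-1) * h.row' 1 + (-1) * h.diag 0 + (1) * h.symm 1 0 + (1) * h.diag 1
  · show f 0 6 + f 0 2 + f 0 3 + f 0 4 + f 0 5 - (f 1 5 + f 1 6 + f 1 2 + f 1 3 + f 1 4) = (f 2 3 + f 3 4 + f 4 5 + f 5 6 + f 6 2 - (f 2 4 + f 3 5 + f 4 6 + f 5 2 + f 6 3)) * (((0) : ℤ) : K)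
    push_cast
    linear_combination (1) * h.row' 0 + (-1) * h.row' 1 + (-1) * h.diag 0 + (1) * h.symm 1 0 + (1) * h.diag 1
  · show f 1 0 + f 1 0 + f 1 0 + f 1 0 + f 1 0 - (f 0 1 + f 0 1 + f 0 1 + f 0 1 + f 0 1) = (f 2 3 + f 3 4 + f 4 5 + f 5 6 + f 6 2 - (f 2 4 + f 3 5 + f 4 6 + f 5 2 + f 6 3)) * (((0) : ℤ) : K)
    push_cast
    linear_combination (5) * h.symm 1 0
  · show f 1 1 + f 1 1 + f 1 1 + f 1 1 + f 1 1 - (f 0 0 + f 0 0 + f 0 0 + f 0 0 + f 0 0) = (f 2 3 + f 3 4 + f 4 5 + f 5 6 + f 6 2 - (f 2 4 + f 3 5 + f 4 6 + f 5 2 + f 6 3)) * (((0) : ℤ) : K)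
    push_cast
    linear_combination (5) * h.diag 1 + (-5) * h.diag 0
  · show f 1 2 + f 1 3 + f 1 4 + f 1 5 + f 1 6 - (f 0 2 + f 0 3 + f 0 4 + f 0 5 + f 0 6) = (f 2 3 + f 3 4 + f 4 5 + f 5 6 + f 6 2 - (f 2 4 + f 3 5 + f 4 6 + f 5 2 + f 6 3)) * (((0) : ℤ) : K)
    push_cast
    linear_combination (-1) * h.row' 0 + (1) * h.row' 1 + (1) * h.diag 0 + (-1) * h.symm 1 0 + (-1) * h.diag 1
  · show f 1 3 + f 1 4 + f 1 5 + f 1 6 + f 1 2 - (f 0 4 + f 0 5 + f 0 6 + f 0 2 + f 0 3) = (f 2 3 + f 3 4 + f 4 5 + f 5 6 + f 6 2 - (f 2 4 + f 3 5 + f 4 6 + f 5 2 + f 6 3)) * (((0) : ℤ) : K)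
    push_cast
    linear_combination (-1) * h.row' 0 + (1) * h.row' 1 + (1) * h.diag 0 + (-1) * h.symm 1 0 + (-1) * h.diag 1
  · show f 1 4 + f 1 5 + f 1 6 + f 1 2 + f 1 3 - (f 0 6 + f 0 2 + f 0 3 + f 0 4 + f 0 5) = (f 2 3 + f 3 4 + f 4 5 + f 5 6 + f 6 2 - (f 2 4 + f 3 5 + f 4 6 + f 5 2 + f 6 3)) * (((0) : ℤ) : K)
    push_cast
    linear_combination (-1) * h.row' 0 + (1) * h.row' 1 + (1) * h.diag 0 + (-1) * h.symm 1 0 + (-1) * h.diag 1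
  · show f 1 5 + f 1 6 + f 1 2 + f 1 3 + f 1 4 - (f 0 3 + f 0 4 + f 0 5 + f 0 6 + f 0 2) = (f 2 3 + f 3 4 + f 4 5 + f 5 6 + f 6 2 - (f 2 4 + f 3 5 + f 4 6 + f 5 2 + f 6 3)) * (((0) : ℤ) : K)
    push_cast
    linear_combination (-1) * h.row' 0 + (1) * h.row' 1 + (1) * h.diag 0 + (-1) * h.symm 1 0 + (-1) * h.diag 1
  · show f 1 6 + f 1 2 + f 1 3 + f 1 4 + f 1 5 - (f 0 5 + f 0 6 + f 0 2 + f 0 3 + f 0 4) = (f 2 3 + f 3 4 + f 4 5 + f 5 6 + f 6 2 - (f 2 4 + f 3 5 + f 4 6 + f 5 2 + f 6 3)) * (((0) : ℤ) : K)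
    push_cast
    linear_combination (-1) * h.row' 0 + (1) * h.row' 1 + (1) * h.diag 0 + (-1) * h.symm 1 0 + (-1) * h.diag 1
  · show f 2 0 + f 3 0 + f 4 0 + f 5 0 + f 6 0 - (f 2 1 + f 3 1 + f 4 1 + f 5 1 + f 6 1) = (f 2 3 + f 3 4 + f 4 5 + f 5 6 + f 6 2 - (f 2 4 + f 3 5 + f 4 6 + f 5 2 + f 6 3)) * (((0) : ℤ) : K)
    push_cast
    linear_combination (1) * h.row' 0 + (-1) * h.row' 1 + (1) * h.symm 2 0 + (-1) * h.symm 2 1 + (1) * h.symm 3 0 + (-1) * h.symm 3 1 + (1) * h.symm 4 0 + (-1) * h.symm 4 1 + (1) * h.symm 5 0 + (-1) * h.symm 5 1 + (1) * h.symm 6 0 + (-1) * h.symm 6 1 + (-1) * h.diag 0 + (1) * h.symm 1 0 + (1) * h.diag 1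
  · show f 2 1 + f 3 1 + f 4 1 + f 5 1 + f 6 1 - (f 2 0 + f 3 0 + f 4 0 + f 5 0 + f 6 0) = (f 2 3 + f 3 4 + f 4 5 + f 5 6 + f 6 2 - (f 2 4 + f 3 5 + f 4 6 + f 5 2 + f 6 3)) * (((0) : ℤ) : K)
    push_cast
    linear_combination (-1) * h.row' 0 + (1) * h.row' 1 + (1) * h.symm 2 1 + (-1) * h.symm 2 0 + (1) * h.symm 3 1 + (-1) * h.symm 3 0 + (1) * h.symm 4 1 + (-1) * h.symm 4 0 + (1) * h.symm 5 1 + (-1) * h.symm 5 0 + (1) * h.symm 6 1 + (-1) * h.symm 6 0 + (1) * h.diag 0 + (-1) * h.symm 1 0 + (-1) * h.diag 1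
  · show f 2 2 + f 3 3 + f 4 4 + f 5 5 + f 6 6 - (f 2 2 + f 3 3 + f 4 4 + f 5 5 + f 6 6) = (f 2 3 + f 3 4 + f 4 5 + f 5 6 + f 6 2 - (f 2 4 + f 3 5 + f 4 6 + f 5 2 + f 6 3)) * (((0) : ℤ) : K)
    push_cast
    ring
  · show f 2 3 + f 3 4 + f 4 5 + f 5 6 + f 6 2 - (f 2 4 + f 3 5 + f 4 6 + f 5 2 + f 6 3) = (f 2 3 + f 3 4 + f 4 5 + f 5 6 + f 6 2 - (f 2 4 + f 3 5 + f 4 6 + f 5 2 + f 6 3)) * (((1) : ℤ) : K)
    push_cast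
    ring
  · show f 2 4 + f 3 5 + f 4 6 + f 5 2 + f 6 3 - (f 2 6 + f 3 2 + f 4 3 + f 5 4 + f 6 5) = (f 2 3 + f 3 4 + f 4 5 + f 5 6 + f 6 2 - (f 2 4 + f 3 5 + f 4 6 + f 5 2 + f 6 3)) * (((-1) : ℤ) : K)
    push_cast
    linear_combination (-1) * h.symm 3 2 + (-1) * h.symm 4 3 + (-1) * h.symm 5 4 + (-1) * h.symm 6 5 + (1) * h.symm 6 2
  · show f 2 5 + f 3 6 + f 4 2 + f 5 3 + f 6 4 - (f 2 3 + f 3 4 + f 4 5 + f 5 6 + f 6 2) = (f 2 3 + f 3 4 + f 4 5 + f 5 6 + f 6 2 - (f 2 4 + f 3 5 + f 4 6 + f 5 2 + f 6 3)) * (((-1) : ℤ) : K)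
    push_cast
    linear_combination (1) * h.symm 4 2 + (1) * h.symm 5 3 + (1) * h.symm 6 4 + (-1) * h.symm 5 2 + (-1) * h.symm 6 3
  · show f 2 6 + f 3 2 + f 4 3 + f 5 4 + f 6 5 - (f 2 5 + f 3 6 + f 4 2 + f 5 3 + f 6 4) = (f 2 3 + f 3 4 + f 4 5 + f 5 6 + f 6 2 - (f 2 4 + f 3 5 + f 4 6 + f 5 2 + f 6 3)) * (((1) : ℤ) : K)
    push_cast
    linear_combination (1) * h.symm 3 2 + (1) * h.symm 4 3 + (-1) * h.symm 4 2 + (1) * h.symm 5 4 + (-1) * h.symm 5 3 + (1) * h.symm 6 5 + (-1) * h.symm 6 4 + (-1) * h.symm 6 2 + (1) * h.symm 5 2 + (1) * h.symm 6 3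
  · show f 3 0 + f 4 0 + f 5 0 + f 6 0 + f 2 0 - (f 4 1 + f 5 1 + f 6 1 + f 2 1 + f 3 1) = (f 2 3 + f 3 4 + f 4 5 + f 5 6 + f 6 2 - (f 2 4 + f 3 5 + f 4 6 + f 5 2 + f 6 3)) * (((0) : ℤ) : K)
    push_cast
    linear_combination (1) * h.row' 0 + (-1) * h.row' 1 + (1) * h.symm 3 0 + (-1) * h.symm 4 1 + (1) * h.symm 4 0 + (-1) * h.symm 5 1 + (1) * h.symm 5 0 + (-1) * h.symm 6 1 + (1) * h.symm 6 0 + (-1) * h.symm 2 1 + (1) * h.symm 2 0 + (-1) * h.symm 3 1 + (-1) * h.diag 0 + (1) * h.symm 1 0 + (1) * h.diag 1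
  · show f 3 1 + f 4 1 + f 5 1 + f 6 1 + f 2 1 - (f 4 0 + f 5 0 + f 6 0 + f 2 0 + f 3 0) = (f 2 3 + f 3 4 + f 4 5 + f 5 6 + f 6 2 - (f 2 4 + f 3 5 + f 4 6 + f 5 2 + f 6 3)) * (((0) : ℤ) : K)
    push_cast
    linear_combination (-1) * h.row' 0 + (1) * h.row' 1 + (1) * h.symm 3 1 + (-1) * h.symm 4 0 + (1) * h.symm 4 1 + (-1) * h.symm 5 0 + (1) * h.symm 5 1 + (-1) * h.symm 6 0 + (1) * h.symm 6 1 + (-1) * h.symm 2 0 + (1) * h.symm 2 1 + (-1) * h.symm 3 0 + (1) * h.diag 0 + (-1) * h.symm 1 0 + (-1) * h.diag 1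
  · show f 3 2 + f 4 3 + f 5 4 + f 6 5 + f 2 6 - (f 4 2 + f 5 3 + f 6 4 + f 2 5 + f 3 6) = (f 2 3 + f 3 4 + f 4 5 + f 5 6 + f 6 2 - (f 2 4 + f 3 5 + f 4 6 + f 5 2 + f 6 3)) * (((1) : ℤ) : K)
    push_cast
    linear_combination (1) * h.symm 3 2 + (-1) * h.symm 4 2 + (1) * h.symm 4 3 + (-1) * h.symm 5 3 + (1) * h.symm 5 4 + (-1) * h.symm 6 4 + (1) * h.symm 6 5 + (-1) * h.symm 6 2 + (1) * h.symm 5 2 + (1) * h.symm 6 3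
  · show f 3 3 + f 4 4 + f 5 5 + f 6 6 + f 2 2 - (f 4 4 + f 5 5 + f 6 6 + f 2 2 + f 3 3) = (f 2 3 + f 3 4 + f 4 5 + f 5 6 + f 6 2 - (f 2 4 + f 3 5 + f 4 6 + f 5 2 + f 6 3)) * (((0) : ℤ) : K)
    push_cast
    ring
  · show f 3 4 + f 4 5 + f 5 6 + f 6 2 + f 2 3 - (f 4 6 + f 5 2 + f 6 3 + f 2 4 + f 3 5) = (f 2 3 + f 3 4 + f 4 5 + f 5 6 + f 6 2 - (f 2 4 + f 3 5 + f 4 6 + f 5 2 + f 6 3)) * (((1) : ℤ) : K)
    push_cast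
    ring
  · show f 3 5 + f 4 6 + f 5 2 + f 6 3 + f 2 4 - (f 4 3 + f 5 4 + f 6 5 + f 2 6 + f 3 2) = (f 2 3 + f 3 4 + f 4 5 + f 5 6 + f 6 2 - (f 2 4 + f 3 5 + f 4 6 + f 5 2 + f 6 3)) * (((-1) : ℤ) : K)
    push_cast
    linear_combination (-1) * h.symm 4 3 + (-1) * h.symm 5 4 + (-1) * h.symm 6 5 + (-1) * h.symm 3 2 + (1) * h.symm 6 2
  · show f 3 6 + f 4 2 + f 5 3 + f 6 4 + f 2 5 - (f 4 5 + f 5 6 + f 6 2 + f 2 3 + f 3 4) = (f 2 3 + f 3 4 + f 4 5 + f 5 6 + f 6 2 - (f 2 4 + f 3 5 + f 4 6 + f 5 2 + f 6 3)) * (((-1) : ℤ) : K)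
    push_cast
    linear_combination (1) * h.symm 4 2 + (1) * h.symm 5 3 + (1) * h.symm 6 4 + (-1) * h.symm 5 2 + (-1) * h.symm 6 3
  · show f 4 0 + f 5 0 + f 6 0 + f 2 0 + f 3 0 - (f 6 1 + f 2 1 + f 3 1 + f 4 1 + f 5 1) = (f 2 3 + f 3 4 + f 4 5 + f 5 6 + f 6 2 - (f 2 4 + f 3 5 + f 4 6 + f 5 2 + f 6 3)) * (((0) : ℤ) : K)
    push_cast
    linear_combination (1) * h.row' 0 + (-1) * h.row' 1 + (1) * h.symm 4 0 + (-1) * h.symm 6 1 + (1) * h.symm 5 0 + (-1) * h.symm 2 1 + (1) * h.symm 6 0 + (-1) * h.symm 3 1 + (1) * h.symm 2 0 + (-1) * h.symm 4 1 + (1) * h.symm 3 0 + (-1) * h.symm 5 1 + (-1) * h.diag 0 + (1) * h.symm 1 0 + (1) * h.diag 1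
  · show f 4 1 + f 5 1 + f 6 1 + f 2 1 + f 3 1 - (f 6 0 + f 2 0 + f 3 0 + f 4 0 + f 5 0) = (f 2 3 + f 3 4 + f 4 5 + f 5 6 + f 6 2 - (f 2 4 + f 3 5 + f 4 6 + f 5 2 + f 6 3)) * (((0) : ℤ) : K)
    push_cast
    linear_combination (-1) * h.row' 0 + (1) * h.row' 1 + (1) * h.symm 4 1 + (-1) * h.symm 6 0 + (1) * h.symm 5 1 + (-1) * h.symm 2 0 + (1) * h.symm 6 1 + (-1) * h.symm 3 0 + (1) * h.symm 2 1 + (-1) * h.symm 4 0 + (1) * h.symm 3 1 + (-1) * h.symm 5 0 + (1) * h.diag 0 + (-1) * h.symm 1 0 + (-1) * h.diag 1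
  · show f 4 2 + f 5 3 + f 6 4 + f 2 5 + f 3 6 - (f 6 2 + f 2 3 + f 3 4 + f 4 5 + f 5 6) = (f 2 3 + f 3 4 + f 4 5 + f 5 6 + f 6 2 - (f 2 4 + f 3 5 + f 4 6 + f 5 2 + f 6 3)) * (((-1) : ℤ) : K)
    push_cast
    linear_combination (1) * h.symm 4 2 + (1) * h.symm 5 3 + (1) * h.symm 6 4 + (-1) * h.symm 5 2 + (-1) * h.symm 6 3
  · show f 4 3 + f 5 4 + f 6 5 + f 2 6 + f 3 2 - (f 6 4 + f 2 5 + f 3 6 + f 4 2 + f 5 3) = (f 2 3 + f 3 4 + f 4 5 + f 5 6 + f 6 2 - (f 2 4 + f 3 5 + f 4 6 + f 5 2 + f 6 3)) * (((1) : ℤ) : K)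
    push_cast
    linear_combination (1) * h.symm 4 3 + (-1) * h.symm 6 4 + (1) * h.symm 5 4 + (1) * h.symm 6 5 + (-1) * h.symm 4 2 + (1) * h.symm 3 2 + (-1) * h.symm 5 3 + (-1) * h.symm 6 2 + (1) * h.symm 5 2 + (1) * h.symm 6 3
  · show f 4 4 + f 5 5 + f 6 6 + f 2 2 + f 3 3 - (f 6 6 + f 2 2 + f 3 3 + f 4 4 + f 5 5) = (f 2 3 + f 3 4 + f 4 5 + f 5 6 + f 6 2 - (f 2 4 + f 3 5 + f 4 6 + f 5 2 + f 6 3)) * (((0) : ℤ) : K)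
    push_cast
    ring
  · show f 4 5 + f 5 6 + f 6 2 + f 2 3 + f 3 4 - (f 6 3 + f 2 4 + f 3 5 + f 4 6 + f 5 2) = (f 2 3 + f 3 4 + f 4 5 + f 5 6 + f 6 2 - (f 2 4 + f 3 5 + f 4 6 + f 5 2 + f 6 3)) * (((1) : ℤ) : K)
    push_cast
    ring
  · show f 4 6 + f 5 2 + f 6 3 + f 2 4 + f 3 5 - (f 6 5 + f 2 6 + f 3 2 + f 4 3 + f 5 4) = (f 2 3 + f 3 4 + f 4 5 + f 5 6 + f 6 2 - (f 2 4 + f 3 5 + f 4 6 + f 5 2 + f 6 3)) * (((-1) : ℤ) : K)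
    push_cast
    linear_combination (-1) * h.symm 6 5 + (-1) * h.symm 3 2 + (-1) * h.symm 4 3 + (-1) * h.symm 5 4 + (1) * h.symm 6 2
  · show f 5 0 + f 6 0 + f 2 0 + f 3 0 + f 4 0 - (f 3 1 + f 4 1 + f 5 1 + f 6 1 + f 2 1) = (f 2 3 + f 3 4 + f 4 5 + f 5 6 + f 6 2 - (f 2 4 + f 3 5 + f 4 6 + f 5 2 + f 6 3)) * (((0) : ℤ) : K)
    push_cast
    linear_combination (1) * h.row' 0 + (-1) * h.row' 1 + (1) * h.symm 5 0 + (-1) * h.symm 3 1 + (1) * h.symm 6 0 + (-1) * h.symm 4 1 + (1) * h.symm 2 0 + (-1) * h.symm 5 1 + (1) * h.symm 3 0 + (-1) * h.symm 6 1 + (1) * h.symm 4 0 + (-1) * h.symm 2 1 + (-1) * h.diag 0 + (1) * h.symm 1 0 + (1) * h.diag 1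
  · show f 5 1 + f 6 1 + f 2 1 + f 3 1 + f 4 1 - (f 3 0 + f 4 0 + f 5 0 + f 6 0 + f 2 0) = (f 2 3 + f 3 4 + f 4 5 + f 5 6 + f 6 2 - (f 2 4 + f 3 5 + f 4 6 + f 5 2 + f 6 3)) * (((0) : ℤ) : K)
    push_cast
    linear_combination (-1) * h.row' 0 + (1) * h.row' 1 + (1) * h.symm 5 1 + (-1) * h.symm 3 0 + (1) * h.symm 6 1 + (-1) * h.symm 4 0 + (1) * h.symm 2 1 + (-1) * h.symm 5 0 + (1) * h.symm 3 1 + (-1) * h.symm 6 0 + (1) * h.symm 4 1 + (-1) * h.symm 2 0 + (1) * h.diag 0 + (-1) * h.symm 1 0 + (-1) * h.diag 1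
  · show f 5 2 + f 6 3 + f 2 4 + f 3 5 + f 4 6 - (f 3 2 + f 4 3 + f 5 4 + f 6 5 + f 2 6) = (f 2 3 + f 3 4 + f 4 5 + f 5 6 + f 6 2 - (f 2 4 + f 3 5 + f 4 6 + f 5 2 + f 6 3)) * (((-1) : ℤ) : K)
    push_cast
    linear_combination (-1) * h.symm 3 2 + (-1) * h.symm 4 3 + (-1) * h.symm 5 4 + (-1) * h.symm 6 5 + (1) * h.symm 6 2
  · show f 5 3 + f 6 4 + f 2 5 + f 3 6 + f 4 2 - (f 3 4 + f 4 5 + f 5 6 + f 6 2 + f 2 3) = (f 2 3 + f 3 4 + f 4 5 + f 5 6 + f 6 2 - (f 2 4 + f 3 5 + f 4 6 + f 5 2 + f 6 3)) * (((-1) : ℤ) : K)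
    push_cast
    linear_combination (1) * h.symm 5 3 + (1) * h.symm 6 4 + (1) * h.symm 4 2 + (-1) * h.symm 5 2 + (-1) * h.symm 6 3
  · show f 5 4 + f 6 5 + f 2 6 + f 3 2 + f 4 3 - (f 3 6 + f 4 2 + f 5 3 + f 6 4 + f 2 5) = (f 2 3 + f 3 4 + f 4 5 + f 5 6 + f 6 2 - (f 2 4 + f 3 5 + f 4 6 + f 5 2 + f 6 3)) * (((1) : ℤ) : K)
    push_cast
    linear_combination (1) * h.symm 5 4 + (1) * h.symm 6 5 + (-1) * h.symm 4 2 + (-1) * h.symm 5 3 + (1) * h.symm 3 2 + (-1) * h.symm 6 4 + (1) * h.symm 4 3 + (-1) * h.symm 6 2 + (1) * h.symm 5 2 + (1) * h.symm 6 3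
  · show f 5 5 + f 6 6 + f 2 2 + f 3 3 + f 4 4 - (f 3 3 + f 4 4 + f 5 5 + f 6 6 + f 2 2) = (f 2 3 + f 3 4 + f 4 5 + f 5 6 + f 6 2 - (f 2 4 + f 3 5 + f 4 6 + f 5 2 + f 6 3)) * (((0) : ℤ) : K)
    push_cast
    ring
  · show f 5 6 + f 6 2 + f 2 3 + f 3 4 + f 4 5 - (f 3 5 + f 4 6 + f 5 2 + f 6 3 + f 2 4) = (f 2 3 + f 3 4 + f 4 5 + f 5 6 + f 6 2 - (f 2 4 + f 3 5 + f 4 6 + f 5 2 + f 6 3)) * (((1) : ℤ) : K)
    push_cast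
    ring
  · show f 6 0 + f 2 0 + f 3 0 + f 4 0 + f 5 0 - (f 5 1 + f 6 1 + f 2 1 + f 3 1 + f 4 1) = (f 2 3 + f 3 4 + f 4 5 + f 5 6 + f 6 2 - (f 2 4 + f 3 5 + f 4 6 + f 5 2 + f 6 3)) * (((0) : ℤ) : K)
    push_cast
    linear_combination (1) * h.row' 0 + (-1) * h.row' 1 + (1) * h.symm 6 0 + (-1) * h.symm 5 1 + (1) * h.symm 2 0 + (-1) * h.symm 6 1 + (1) * h.symm 3 0 + (-1) * h.symm 2 1 + (1) * h.symm 4 0 + (-1) * h.symm 3 1 + (1) * h.symm 5 0 + (-1) * h.symm 4 1 + (-1) * h.diag 0 + (1) * h.symm 1 0 + (1) * h.diag 1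
  · show f 6 1 + f 2 1 + f 3 1 + f 4 1 + f 5 1 - (f 5 0 + f 6 0 + f 2 0 + f 3 0 + f 4 0) = (f 2 3 + f 3 4 + f 4 5 + f 5 6 + f 6 2 - (f 2 4 + f 3 5 + f 4 6 + f 5 2 + f 6 3)) * (((0) : ℤ) : K)
    push_cast
    linear_combination (-1) * h.row' 0 + (1) * h.row' 1 + (1) * h.symm 6 1 + (-1) * h.symm 5 0 + (1) * h.symm 2 1 + (-1) * h.symm 6 0 + (1) * h.symm 3 1 + (-1) * h.symm 2 0 + (1) * h.symm 4 1 + (-1) * h.symm 3 0 + (1) * h.symm 5 1 + (-1) * h.symm 4 0 + (1) * h.diag 0 + (-1) * h.symm 1 0 + (-1) * h.diag 1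
  · show f 6 2 + f 2 3 + f 3 4 + f 4 5 + f 5 6 - (f 5 2 + f 6 3 + f 2 4 + f 3 5 + f 4 6) = (f 2 3 + f 3 4 + f 4 5 + f 5 6 + f 6 2 - (f 2 4 + f 3 5 + f 4 6 + f 5 2 + f 6 3)) * (((1) : ℤ) : K)
    push_cast
    ring
  · show f 6 3 + f 2 4 + f 3 5 + f 4 6 + f 5 2 - (f 5 4 + f 6 5 + f 2 6 + f 3 2 + f 4 3) = (f 2 3 + f 3 4 + f 4 5 + f 5 6 + f 6 2 - (f 2 4 + f 3 5 + f 4 6 + f 5 2 + f 6 3)) * (((-1) : ℤ) : K)
    push_cast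
    linear_combination (-1) * h.symm 5 4 + (-1) * h.symm 6 5 + (-1) * h.symm 3 2 + (-1) * h.symm 4 3 + (1) * h.symm 6 2
  · show f 6 4 + f 2 5 + f 3 6 + f 4 2 + f 5 3 - (f 5 6 + f 6 2 + f 2 3 + f 3 4 + f 4 5) = (f 2 3 + f 3 4 + f 4 5 + f 5 6 + f 6 2 - (f 2 4 + f 3 5 + f 4 6 + f 5 2 + f 6 3)) * (((-1) : ℤ) : K)
    push_cast
    linear_combination (1) * h.symm 6 4 + (1) * h.symm 4 2 + (1) * h.symm 5 3 + (-1) * h.symm 5 2 + (-1) * h.symm 6 3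
  · show f 6 5 + f 2 6 + f 3 2 + f 4 3 + f 5 4 - (f 5 3 + f 6 4 + f 2 5 + f 3 6 + f 4 2) = (f 2 3 + f 3 4 + f 4 5 + f 5 6 + f 6 2 - (f 2 4 + f 3 5 + f 4 6 + f 5 2 + f 6 3)) * (((1) : ℤ) : K)
    push_cast
    linear_combination (1) * h.symm 6 5 + (-1) * h.symm 5 3 + (-1) * h.symm 6 4 + (1) * h.symm 3 2 + (1) * h.symm 4 3 + (1) * h.symm 5 4 + (-1) * h.symm 4 2 + (-1) * h.symm 6 2 + (1) * h.symm 5 2 + (1) * h.symm 6 3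
  · show f 6 6 + f 2 2 + f 3 3 + f 4 4 + f 5 5 - (f 5 5 + f 6 6 + f 2 2 + f 3 3 + f 4 4) = (f 2 3 + f 3 4 + f 4 5 + f 5 6 + f 6 2 - (f 2 4 + f 3 5 + f 4 6 + f 5 2 + f 6 3)) * (((0) : ℤ) : K)
    push_cast
    ring

theorem rsum (h2 : (2 : K) ≠ 0) {f : Fin 7 → Fin 7 → K} (h : S14 f) (i j : Fin 7) :
    ∑ k, f (rt k i) (rt k j) = f 0 1 * (aa i j : K) + (f 2 3 + f 3 4 + f 4 5 + f 5 6 + f 6 2) * (dd i j : K) := by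
  rw [Fin.sum_univ_five]
  fin_cases i <;> fin_cases j
  · show f 0 0 + f 0 0 + f 0 0 + f 0 0 + f 0 0 = f 0 1 * (((0) : ℤ) : K) + (f 2 3 + f 3 4 + f 4 5 + f 5 6 + f 6 2) * (((0) : ℤ) : K)
    push_cast
    linear_combination (5) * h.diag 0
  · show f 0 1 + f 0 1 + f 0 1 + f 0 1 + f 0 1 = f 0 1 * (((5) : ℤ) : K) + (f 2 3 + f 3 4 + f 4 5 + f 5 6 + f 6 2) * (((0) : ℤ) : K)
    push_cast
    ring
  · show f 0 2 + f 0 3 + f 0 4 + f 0 5 + f 0 6 = f 0 1 * (((-1) : ℤ) : K) + (f 2 3 + f 3 4 + f 4 5 + f 5 6 + f 6 2) * (((0) : ℤ) : K)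
    push_cast
    linear_combination (1) * h.row' 0 + (-1) * h.diag 0
  · show f 0 3 + f 0 4 + f 0 5 + f 0 6 + f 0 2 = f 0 1 * (((-1) : ℤ) : K) + (f 2 3 + f 3 4 + f 4 5 + f 5 6 + f 6 2) * (((0) : ℤ) : K)
    push_cast
    linear_combination (1) * h.row' 0 + (-1) * h.diag 0
  · show f 0 4 + f 0 5 + f 0 6 + f 0 2 + f 0 3 = f 0 1 * (((-1) : ℤ) : K) + (f 2 3 + f 3 4 + f 4 5 + f 5 6 + f 6 2) * (((0) : ℤ) : K)
    push_cast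
    linear_combination (1) * h.row' 0 + (-1) * h.diag 0
  · show f 0 5 + f 0 6 + f 0 2 + f 0 3 + f 0 4 = f 0 1 * (((-1) : ℤ) : K) + (f 2 3 + f 3 4 + f 4 5 + f 5 6 + f 6 2) * (((0) : ℤ) : K)
    push_cast
    linear_combination (1) * h.row' 0 + (-1) * h.diag 0
  · show f 0 6 + f 0 2 + f 0 3 + f 0 4 + f 0 5 = f 0 1 * (((-1) : ℤ) : K) + (f 2 3 + f 3 4 + f 4 5 + f 5 6 + f 6 2) * (((0) : ℤ) : K)
    push_cast
    linear_combination (1) * h.row' 0 + (-1) * h.diag 0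
  · show f 1 0 + f 1 0 + f 1 0 + f 1 0 + f 1 0 = f 0 1 * (((5) : ℤ) : K) + (f 2 3 + f 3 4 + f 4 5 + f 5 6 + f 6 2) * (((0) : ℤ) : K)
    push_cast
    linear_combination (5) * h.symm 1 0
  · show f 1 1 + f 1 1 + f 1 1 + f 1 1 + f 1 1 = f 0 1 * (((0) : ℤ) : K) + (f 2 3 + f 3 4 + f 4 5 + f 5 6 + f 6 2) * (((0) : ℤ) : K)
    push_cast
    linear_combination (5) * h.diag 1
  · show f 1 2 + f 1 3 + f 1 4 + f 1 5 + f 1 6 = f 0 1 * (((-1) : ℤ) : K) + (f 2 3 + f 3 4 + f 4 5 + f 5 6 + f 6 2) * (((0) : ℤ) : K)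
    push_cast
    linear_combination (1) * h.row' 1 + (-1) * h.symm 1 0 + (-1) * h.diag 1
  · show f 1 3 + f 1 4 + f 1 5 + f 1 6 + f 1 2 = f 0 1 * (((-1) : ℤ) : K) + (f 2 3 + f 3 4 + f 4 5 + f 5 6 + f 6 2) * (((0) : ℤ) : K)
    push_cast
    linear_combination (1) * h.row' 1 + (-1) * h.symm 1 0 + (-1) * h.diag 1
  · show f 1 4 + f 1 5 + f 1 6 + f 1 2 + f 1 3 = f 0 1 * (((-1) : ℤ) : K) + (f 2 3 + f 3 4 + f 4 5 + f 5 6 + f 6 2) * (((0) : ℤ) : K)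
    push_cast
    linear_combination (1) * h.row' 1 + (-1) * h.symm 1 0 + (-1) * h.diag 1
  · show f 1 5 + f 1 6 + f 1 2 + f 1 3 + f 1 4 = f 0 1 * (((-1) : ℤ) : K) + (f 2 3 + f 3 4 + f 4 5 + f 5 6 + f 6 2) * (((0) : ℤ) : K)
    push_cast
    linear_combination (1) * h.row' 1 + (-1) * h.symm 1 0 + (-1) * h.diag 1
  · show f 1 6 + f 1 2 + f 1 3 + f 1 4 + f 1 5 = f 0 1 * (((-1) : ℤ) : K) + (f 2 3 + f 3 4 + f 4 5 + f 5 6 + f 6 2) * (((0) : ℤ) : K)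
    push_cast
    linear_combination (1) * h.row' 1 + (-1) * h.symm 1 0 + (-1) * h.diag 1
  · show f 2 0 + f 3 0 + f 4 0 + f 5 0 + f 6 0 = f 0 1 * (((-1) : ℤ) : K) + (f 2 3 + f 3 4 + f 4 5 + f 5 6 + f 6 2) * (((0) : ℤ) : K)
    push_cast
    linear_combination (1) * h.row' 0 + (1) * h.symm 2 0 + (1) * h.symm 3 0 + (1) * h.symm 4 0 + (1) * h.symm 5 0 + (1) * h.symm 6 0 + (-1) * h.diag 0
  · show f 2 1 + f 3 1 + f 4 1 + f 5 1 + f 6 1 = f 0 1 * (((-1) : ℤ) : K) + (f 2 3 + f 3 4 + f 4 5 + f 5 6 + f 6 2) * (((0) : ℤ) : K)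
    push_cast
    linear_combination (1) * h.row' 1 + (1) * h.symm 2 1 + (1) * h.symm 3 1 + (1) * h.symm 4 1 + (1) * h.symm 5 1 + (1) * h.symm 6 1 + (-1) * h.symm 1 0 + (-1) * h.diag 1
  · show f 2 2 + f 3 3 + f 4 4 + f 5 5 + f 6 6 = f 0 1 * (((0) : ℤ) : K) + (f 2 3 + f 3 4 + f 4 5 + f 5 6 + f 6 2) * (((0) : ℤ) : K)
    push_cast
    linear_combination (1) * h.diag 2 + (1) * h.diag 3 + (1) * h.diag 4 + (1) * h.diag 5 + (1) * h.diag 6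
  · show f 2 3 + f 3 4 + f 4 5 + f 5 6 + f 6 2 = f 0 1 * (((0) : ℤ) : K) + (f 2 3 + f 3 4 + f 4 5 + f 5 6 + f 6 2) * (((1) : ℤ) : K)
    push_cast
    ring
  · show f 2 4 + f 3 5 + f 4 6 + f 5 2 + f 6 3 = f 0 1 * (((1) : ℤ) : K) + (f 2 3 + f 3 4 + f 4 5 + f 5 6 + f 6 2) * (((-1) : ℤ) : K)
    push_cast
    refine mul_left_cancel₀ h2 ?_
    linear_combination (-1) * h.row' 0 + (-1) * h.row' 1 + (1) * h.row' 2 + (1) * h.row' 3 + (1) * h.row' 4 + (1) * h.row' 5 + (1) * h.row' 6 + (1) * h.symm 5 2 + (1) * h.symm 6 3 + (1) * h.symm 6 2 + (1) * h.diag 0 + (1) * h.symm 1 0 + (1) * h.diag 1 + (-1) * h.symm 2 0 + (-1) * h.symm 2 1 + (-1) * h.diag 2 + (-1) * h.symm 3 0 + (-1) * h.symm 3 1 + (-1) * h.symm 3 2 + (-1) * h.diag 3 + (-1) * h.symm 4 0 + (-1) * h.symm 4 1 + (-1) * h.symm 4 2 + (-1) * h.symm 4 3 + (-1) * h.diag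 4 + (-1) * h.symm 5 0 + (-1) * h.symm 5 1 + (-1) * h.symm 5 3 + (-1) * h.symm 5 4 + (-1) * h.diag 5 + (-1) * h.symm 6 0 + (-1) * h.symm 6 1 + (-1) * h.symm 6 4 + (-1) * h.symm 6 5 + (-1) * h.diag 6
  · show f 2 5 + f 3 6 + f 4 2 + f 5 3 + f 6 4 = f 0 1 * (((1) : ℤ) : K) + (f 2 3 + f 3 4 + f 4 5 + f 5 6 + f 6 2) * (((-1) : ℤ) : K)
    push_cast
    refine mul_left_cancel₀ h2 ?_
    linear_combination (-1) * h.row' 0 + (-1) * h.row' 1 + (1) * h.row' 2 + (1) * h.row' 3 + (1) * h.row' 4 + (1) * h.row' 5 + (1) * h.row' 6 + (1) * h.symm 4 2 + (1) * h.symm 5 3 + (1) * h.symm 6 4 + (1) * h.symm 6 2 + (1) * h.diag 0 + (1) * h.symm 1 0 + (1) * h.diag 1 + (-1) * h.symm 2 0 + (-1) * h.symm 2 1 + (-1) * h.diag 2 + (-1) * h.symm 3 0 + (-1) * h.symm 3 1 + (-1) * h.symm 3 2 + (-1) * h.diag 3 + (-1) * h.symm 4 0 + (-1) * h.symm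 4 1 + (-1) * h.symm 4 3 + (-1) * h.diag 4 + (-1) * h.symm 5 0 + (-1) * h.symm 5 1 + (-1) * h.symm 5 2 + (-1) * h.symm 5 4 + (-1) * h.diag 5 + (-1) * h.symm 6 0 + (-1) * h.symm 6 1 + (-1) * h.symm 6 3 + (-1) * h.symm 6 5 + (-1) * h.diag 6
  · show f 2 6 + f 3 2 + f 4 3 + f 5 4 + f 6 5 = f 0 1 * (((0) : ℤ) : K) + (f 2 3 + f 3 4 + f 4 5 + f 5 6 + f 6 2) * (((1) : ℤ) : K)
    push_cast
    linear_combination (1) * h.symm 3 2 + (1) * h.symm 4 3 + (1) * h.symm 5 4 + (1) * h.symm 6 5 + (-1) * h.symm 6 2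
  · show f 3 0 + f 4 0 + f 5 0 + f 6 0 + f 2 0 = f 0 1 * (((-1) : ℤ) : K) + (f 2 3 + f 3 4 + f 4 5 + f 5 6 + f 6 2) * (((0) : ℤ) : K)
    push_cast
    linear_combination (1) * h.row' 0 + (1) * h.symm 3 0 + (1) * h.symm 4 0 + (1) * h.symm 5 0 + (1) * h.symm 6 0 + (1) * h.symm 2 0 + (-1) * h.diag 0
  · show f 3 1 + f 4 1 + f 5 1 + f 6 1 + f 2 1 = f 0 1 * (((-1) : ℤ) : K) + (f 2 3 + f 3 4 + f 4 5 + f 5 6 + f 6 2) * (((0) : ℤ) : K)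
    push_cast
    linear_combination (1) * h.row' 1 + (1) * h.symm 3 1 + (1) * h.symm 4 1 + (1) * h.symm 5 1 + (1) * h.symm 6 1 + (1) * h.symm 2 1 + (-1) * h.symm 1 0 + (-1) * h.diag 1
  · show f 3 2 + f 4 3 + f 5 4 + f 6 5 + f 2 6 = f 0 1 * (((0) : ℤ) : K) + (f 2 3 + f 3 4 + f 4 5 + f 5 6 + f 6 2) * (((1) : ℤ) : K)
    push_cast
    linear_combination (1) * h.symm 3 2 + (1) * h.symm 4 3 + (1) * h.symm 5 4 + (1) * h.symm 6 5 + (-1) * h.symm 6 2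
  · show f 3 3 + f 4 4 + f 5 5 + f 6 6 + f 2 2 = f 0 1 * (((0) : ℤ) : K) + (f 2 3 + f 3 4 + f 4 5 + f 5 6 + f 6 2) * (((0) : ℤ) : K)
    push_cast
    linear_combination (1) * h.diag 3 + (1) * h.diag 4 + (1) * h.diag 5 + (1) * h.diag 6 + (1) * h.diag 2
  · show f 3 4 + f 4 5 + f 5 6 + f 6 2 + f 2 3 = f 0 1 * (((0) : ℤ) : K) + (f 2 3 + f 3 4 + f 4 5 + f 5 6 + f 6 2) * (((1) : ℤ) : K)
    push_cast
    ring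
  · show f 3 5 + f 4 6 + f 5 2 + f 6 3 + f 2 4 = f 0 1 * (((1) : ℤ) : K) + (f 2 3 + f 3 4 + f 4 5 + f 5 6 + f 6 2) * (((-1) : ℤ) : K)
    push_cast
    refine mul_left_cancel₀ h2 ?_
    linear_combination (-1) * h.row' 0 + (-1) * h.row' 1 + (1) * h.row' 2 + (1) * h.row' 3 + (1) * h.row' 4 + (1) * h.row' 5 + (1) * h.row' 6 + (1) * h.symm 5 2 + (1) * h.symm 6 3 + (1) * h.symm 6 2 + (1) * h.diag 0 + (1) * h.symm 1 0 + (1) * h.diag 1 + (-1) * h.symm 2 0 + (-1) * h.symm 2 1 + (-1) * h.diag 2 + (-1) * h.symm 3 0 + (-1) * h.symm 3 1 + (-1) * h.symm 3 2 + (-1) * h.diag 3 + (-1) * h.symm 4 0 + (-1) * h.symm 4 1 + (-1) * h.symm 4 2 + (-1) * h.symm 4 3 + (-1) * h.diag 4 + (-1) * h.symm 5 0 + (-1) * h.symm 5 1 + (-1) * h.symm 5 3 + (-1) * h.symm 5 4 + (-1) * h.diag 5 + (-1) * h.symm 6 0 + (-1) * h.symm 6 1 + (-1) * h.symm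 6 4 + (-1) * h.symm 6 5 + (-1) * h.diag 6
  · show f 3 6 + f 4 2 + f 5 3 + f 6 4 + f 2 5 = f 0 1 * (((1) : ℤ) : K) + (f 2 3 + f 3 4 + f 4 5 + f 5 6 + f 6 2) * (((-1) : ℤ) : K)
    push_cast
    refine mul_left_cancel₀ h2 ?_
    linear_combination (-1) * h.row' 0 + (-1) * h.row' 1 + (1) * h.row' 2 + (1) * h.row' 3 + (1) * h.row' 4 + (1) * h.row' 5 + (1) * h.row' 6 + (1) * h.symm 4 2 + (1) * h.symm 5 3 + (1) * h.symm 6 4 + (1) * h.symm 6 2 + (1) * h.diag 0 + (1) * h.symm 1 0 + (1) * h.diag 1 + (-1) * h.symm 2 0 + (-1) * h.symm 2 1 + (-1) * h.diag 2 + (-1) * h.symm 3 0 + (-1) * h.symm 3 1 + (-1) * h.symm 3 2 + (-1) * h.diag 3 + (-1) * h.symm 4 0 + (-1) * h.symm 4 1 + (-1) * h.symm 4 3 + (-1) * h.diag 4 + (-1) * h.symm 5 0 + (-1) * h.symm 5 1 + (-1) * h.symm 5 2 + (-1) * h.symm 5 4 + (-1) * h.diag 5 + (-1) * h.symm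 6 0 + (-1) * h.symm 6 1 + (-1) * h.symm 6 3 + (-1) * h.symm 6 5 + (-1) * h.diag 6
  · show f 4 0 + f 5 0 + f 6 0 + f 2 0 + f 3 0 = f 0 1 * (((-1) : ℤ) : K) + (f 2 3 + f 3 4 + f 4 5 + f 5 6 + f 6 2) * (((0) : ℤ) : K)
    push_cast
    linear_combination (1) * h.row' 0 + (1) * h.symm 4 0 + (1) * h.symm 5 0 + (1) * h.symm 6 0 + (1) * h.symm 2 0 + (1) * h.symm 3 0 + (-1) * h.diag 0
  · show f 4 1 + f 5 1 + f 6 1 + f 2 1 + f 3 1 = f 0 1 * (((-1) : ℤ) : K) + (f 2 3 + f 3 4 + f 4 5 + f 5 6 + f 6 2) * (((0) : ℤ) : K)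
    push_cast
    linear_combination (1) * h.row' 1 + (1) * h.symm 4 1 + (1) * h.symm 5 1 + (1) * h.symm 6 1 + (1) * h.symm 2 1 + (1) * h.symm 3 1 + (-1) * h.symm 1 0 + (-1) * h.diag 1
  · show f 4 2 + f 5 3 + f 6 4 + f 2 5 + f 3 6 = f 0 1 * (((1) : ℤ) : K) + (f 2 3 + f 3 4 + f 4 5 + f 5 6 + f 6 2) * (((-1) : ℤ) : K)
    push_cast
    refine mul_left_cancel₀ h2 ?_
    linear_combination (-1) * h.row' 0 + (-1) * h.row' 1 + (1) * h.row' 2 + (1) * h.row' 3 + (1) * h.row' 4 + (1) * h.row' 5 + (1) * h.row' 6 + (1) * h.symm 4 2 + (1) * h.symm 5 3 + (1) * h.symm 6 4 + (1) * h.symm 6 2 + (1) * h.diag 0 + (1) * h.symm 1 0 + (1) * h.diag 1 + (-1) * h.symm 2 0 + (-1) * h.symm 2 1 + (-1) * h.diag 2 + (-1) * h.symm 3 0 + (-1) * h.symm 3 1 + (-1) * h.symm 3 2 + (-1) * h.diag 3 + (-1) * h.symm 4 0 + (-1) * h.symm 4 1 + (-1)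 * h.symm 4 3 + (-1) * h.diag 4 + (-1) * h.symm 5 0 + (-1) * h.symm 5 1 + (-1) * h.symm 5 2 + (-1) * h.symm 5 4 + (-1) * h.diag 5 + (-1) * h.symm 6 0 + (-1) * h.symm 6 1 + (-1) * h.symm 6 3 + (-1) * h.symm 6 5 + (-1) * h.diag 6
  · show f 4 3 + f 5 4 + f 6 5 + f 2 6 + f 3 2 = f 0 1 * (((0) : ℤ) : K) + (f 2 3 + f 3 4 + f 4 5 + f 5 6 + f 6 2) * (((1) : ℤ) : K)
    push_cast
    linear_combination (1) * h.symm 4 3 + (1) * h.symm 5 4 + (1) * h.symm 6 5 + (1) * h.symm 3 2 + (-1) * h.symm 6 2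
  · show f 4 4 + f 5 5 + f 6 6 + f 2 2 + f 3 3 = f 0 1 * (((0) : ℤ) : K) + (f 2 3 + f 3 4 + f 4 5 + f 5 6 + f 6 2) * (((0) : ℤ) : K)
    push_cast
    linear_combination (1) * h.diag 4 + (1) * h.diag 5 + (1) * h.diag 6 + (1) * h.diag 2 + (1) * h.diag 3
  · show f 4 5 + f 5 6 + f 6 2 + f 2 3 + f 3 4 = f 0 1 * (((0) : ℤ) : K) + (f 2 3 + f 3 4 + f 4 5 + f 5 6 + f 6 2) * (((1) : ℤ) : K)
    push_cast
    ring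
  · show f 4 6 + f 5 2 + f 6 3 + f 2 4 + f 3 5 = f 0 1 * (((1) : ℤ) : K) + (f 2 3 + f 3 4 + f 4 5 + f 5 6 + f 6 2) * (((-1) : ℤ) : K)
    push_cast
    refine mul_left_cancel₀ h2 ?_
    linear_combination (-1) * h.row' 0 + (-1) * h.row' 1 + (1) * h.row' 2 + (1) * h.row' 3 + (1) * h.row' 4 + (1) * h.row' 5 + (1) * h.row' 6 + (1) * h.symm 5 2 + (1) * h.symm 6 3 + (1) * h.symm 6 2 + (1) * h.diag 0 + (1) * h.symm 1 0 + (1) * h.diag 1 + (-1) * h.symm 2 0 + (-1) * h.symm 2 1 + (-1) * h.diag 2 + (-1) * h.symm 3 0 + (-1) * h.symm 3 1 + (-1) * h.symm 3 2 + (-1) * h.diag 3 + (-1) * h.symm 4 0 + (-1) * h.symm 4 1 + (-1) * h.symm 4 2 + (-1) * h.symm 4 3 + (-1) * h.diag 4 + (-1) * h.symm 5 0 + (-1) * h.symm 5 1 + (-1) * h.symm 5 3 + (-1) * h.symm 5 4 + (-1) * h.diag 5 + (-1) * h.symm 6 0 + (-1) * h.symm 6 1 + (-1) * h.symm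 6 4 + (-1) * h.symm 6 5 + (-1) * h.diag 6
  · show f 5 0 + f 6 0 + f 2 0 + f 3 0 + f 4 0 = f 0 1 * (((-1) : ℤ) : K) + (f 2 3 + f 3 4 + f 4 5 + f 5 6 + f 6 2) * (((0) : ℤ) : K)
    push_cast
    linear_combination (1) * h.row' 0 + (1) * h.symm 5 0 + (1) * h.symm 6 0 + (1) * h.symm 2 0 + (1) * h.symm 3 0 + (1) * h.symm 4 0 + (-1) * h.diag 0
  · show f 5 1 + f 6 1 + f 2 1 + f 3 1 + f 4 1 = f 0 1 * (((-1) : ℤ) : K) + (f 2 3 + f 3 4 + f 4 5 + f 5 6 + f 6 2) * (((0) : ℤ) : K)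
    push_cast
    linear_combination (1) * h.row' 1 + (1) * h.symm 5 1 + (1) * h.symm 6 1 + (1) * h.symm 2 1 + (1) * h.symm 3 1 + (1) * h.symm 4 1 + (-1) * h.symm 1 0 + (-1) * h.diag 1
  · show f 5 2 + f 6 3 + f 2 4 + f 3 5 + f 4 6 = f 0 1 * (((1) : ℤ) : K) + (f 2 3 + f 3 4 + f 4 5 + f 5 6 + f 6 2) * (((-1) : ℤ) : K)
    push_cast
    refine mul_left_cancel₀ h2 ?_
    linear_combination (-1) * h.row' 0 + (-1) * h.row' 1 + (1) * h.row' 2 + (1) * h.row' 3 + (1) * h.row' 4 + (1) * h.row' 5 + (1) * h.row' 6 + (1) * h.symm 5 2 + (1) * h.symm 6 3 + (1) * h.symm 6 2 + (1) * h.diag 0 + (1) * h.symm 1 0 + (1) * h.diag 1 + (-1) * h.symm 2 0 + (-1) * h.symm 2 1 + (-1) * h.diag 2 + (-1) * h.symm 3 0 + (-1) * h.symm 3 1 + (-1) * h.symm 3 2 + (-1) * h.diag 3 + (-1) * h.symm 4 0 + (-1) * h.symm 4 1 + (-1) * h.symm 4 2 + (-1)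 * h.symm 4 3 + (-1) * h.diag 4 + (-1) * h.symm 5 0 + (-1) * h.symm 5 1 + (-1) * h.symm 5 3 + (-1) * h.symm 5 4 + (-1) * h.diag 5 + (-1) * h.symm 6 0 + (-1) * h.symm 6 1 + (-1) * h.symm 6 4 + (-1) * h.symm 6 5 + (-1) * h.diag 6
  · show f 5 3 + f 6 4 + f 2 5 + f 3 6 + f 4 2 = f 0 1 * (((1) : ℤ) : K) + (f 2 3 + f 3 4 + f 4 5 + f 5 6 + f 6 2) * (((-1) : ℤ) : K)
    push_cast
    refine mul_left_cancel₀ h2 ?_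
    linear_combination (-1) * h.row' 0 + (-1) * h.row' 1 + (1) * h.row' 2 + (1) * h.row' 3 + (1) * h.row' 4 + (1) * h.row' 5 + (1) * h.row' 6 + (1) * h.symm 5 3 + (1) * h.symm 6 4 + (1) * h.symm 4 2 + (1) * h.symm 6 2 + (1) * h.diag 0 + (1) * h.symm 1 0 + (1) * h.diag 1 + (-1) * h.symm 2 0 + (-1) * h.symm 2 1 + (-1) * h.diag 2 + (-1) * h.symm 3 0 + (-1) * h.symm 3 1 + (-1) * h.symm 3 2 + (-1) * h.diag 3 + (-1) * h.symm 4 0 + (-1) * h.symm 4 1 + (-1) * h.symm 4 3 + (-1) * h.diag 4 + (-1) * h.symm 5 0 + (-1) * h.symm 5 1 + (-1) * h.symm 5 2 + (-1) * h.symm 5 4 + (-1) * h.diag 5 + (-1) * h.symm 6 0 + (-1) * h.symm 6 1 + (-1) * h.symm 6 3 + (-1) * h.symm 6 5 + (-1) * h.diag 6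
  · show f 5 4 + f 6 5 + f 2 6 + f 3 2 + f 4 3 = f 0 1 * (((0) : ℤ) : K) + (f 2 3 + f 3 4 + f 4 5 + f 5 6 + f 6 2) * (((1) : ℤ) : K)
    push_cast
    linear_combination (1) * h.symm 5 4 + (1) * h.symm 6 5 + (1) * h.symm 3 2 + (1) * h.symm 4 3 + (-1) * h.symm 6 2
  · show f 5 5 + f 6 6 + f 2 2 + f 3 3 + f 4 4 = f 0 1 * (((0) : ℤ) : K) + (f 2 3 + f 3 4 + f 4 5 + f 5 6 + f 6 2) * (((0) : ℤ) : K)
    push_cast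
    linear_combination (1) * h.diag 5 + (1) * h.diag 6 + (1) * h.diag 2 + (1) * h.diag 3 + (1) * h.diag 4
  · show f 5 6 + f 6 2 + f 2 3 + f 3 4 + f 4 5 = f 0 1 * (((0) : ℤ) : K) + (f 2 3 + f 3 4 + f 4 5 + f 5 6 + f 6 2) * (((1) : ℤ) : K)
    push_cast
    ring
  · show f 6 0 + f 2 0 + f 3 0 + f 4 0 + f 5 0 = f 0 1 * (((-1) : ℤ) : K) + (f 2 3 + f 3 4 + f 4 5 + f 5 6 + f 6 2) * (((0) : ℤ) : K)
    push_cast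
    linear_combination (1) * h.row' 0 + (1) * h.symm 6 0 + (1) * h.symm 2 0 + (1) * h.symm 3 0 + (1) * h.symm 4 0 + (1) * h.symm 5 0 + (-1) * h.diag 0
  · show f 6 1 + f 2 1 + f 3 1 + f 4 1 + f 5 1 = f 0 1 * (((-1) : ℤ) : K) + (f 2 3 + f 3 4 + f 4 5 + f 5 6 + f 6 2) * (((0) : ℤ) : K)
    push_cast
    linear_combination (1) * h.row' 1 + (1) * h.symm 6 1 + (1) * h.symm 2 1 + (1) * h.symm 3 1 + (1) * h.symm 4 1 + (1) * h.symm 5 1 + (-1) * h.symm 1 0 + (-1) * h.diag 1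
  · show f 6 2 + f 2 3 + f 3 4 + f 4 5 + f 5 6 = f 0 1 * (((0) : ℤ) : K) + (f 2 3 + f 3 4 + f 4 5 + f 5 6 + f 6 2) * (((1) : ℤ) : K)
    push_cast
    ring
  · show f 6 3 + f 2 4 + f 3 5 + f 4 6 + f 5 2 = f 0 1 * (((1) : ℤ) : K) + (f 2 3 + f 3 4 + f 4 5 + f 5 6 + f 6 2) * (((-1) : ℤ) : K)
    push_cast
    refine mul_left_cancel₀ h2 ?_
    linear_combination (-1) * h.row' 0 + (-1) * h.row' 1 + (1) * h.row' 2 + (1) * h.row' 3 + (1) * h.row' 4 + (1) * h.row' 5 + (1) * h.row' 6 + (1) * h.symm 6 3 + (1) * h.symm 5 2 + (1) * h.symm 6 2 + (1) * h.diag 0 + (1) * h.symm 1 0 + (1) * h.diag 1 + (-1) * h.symm 2 0 + (-1) * h.symm 2 1 + (-1) * h.diag 2 + (-1) * h.symm 3 0 + (-1) * h.symm 3 1 + (-1) * h.symm 3 2 + (-1) * h.diag 3 + (-1) * h.symm 4 0 + (-1) * h.symm 4 1 + (-1) * h.symm 4 2 + (-1) * h.symm 4 3 + (-1) * h.diag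 4 + (-1) * h.symm 5 0 + (-1) * h.symm 5 1 + (-1) * h.symm 5 3 + (-1) * h.symm 5 4 + (-1) * h.diag 5 + (-1) * h.symm 6 0 + (-1) * h.symm 6 1 + (-1) * h.symm 6 4 + (-1) * h.symm 6 5 + (-1) * h.diag 6
  · show f 6 4 + f 2 5 + f 3 6 + f 4 2 + f 5 3 = f 0 1 * (((1) : ℤ) : K) + (f 2 3 + f 3 4 + f 4 5 + f 5 6 + f 6 2) * (((-1) : ℤ) : K)
    push_cast
    refine mul_left_cancel₀ h2 ?_
    linear_combination (-1) * h.row' 0 + (-1) * h.row' 1 + (1) * h.row' 2 + (1) * h.row' 3 + (1) * h.row' 4 + (1) * h.row' 5 + (1) * h.row' 6 + (1) * h.symm 6 4 + (1) * h.symm 4 2 + (1) * h.symm 5 3 + (1) * h.symm 6 2 + (1) * h.diag 0 + (1) * h.symm 1 0 + (1) * h.diag 1 + (-1) * h.symm 2 0 + (-1) * h.symm 2 1 + (-1) * h.diag 2 + (-1) * h.symm 3 0 + (-1) * h.symm 3 1 + (-1) * h.symm 3 2 + (-1) * h.diag 3 + (-1) * h.symm 4 0 + (-1) * h.symm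 4 1 + (-1) * h.symm 4 3 + (-1) * h.diag 4 + (-1) * h.symm 5 0 + (-1) * h.symm 5 1 + (-1) * h.symm 5 2 + (-1) * h.symm 5 4 + (-1) * h.diag 5 + (-1) * h.symm 6 0 + (-1) * h.symm 6 1 + (-1) * h.symm 6 3 + (-1) * h.symm 6 5 + (-1) * h.diag 6
  · show f 6 5 + f 2 6 + f 3 2 + f 4 3 + f 5 4 = f 0 1 * (((0) : ℤ) : K) + (f 2 3 + f 3 4 + f 4 5 + f 5 6 + f 6 2) * (((1) : ℤ) : K)
    push_cast
    linear_combination (1) * h.symm 6 5 + (1) * h.symm 3 2 + (1) * h.symm 4 3 + (1) * h.symm 5 4 + (-1) * h.symm 6 2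
  · show f 6 6 + f 2 2 + f 3 3 + f 4 4 + f 5 5 = f 0 1 * (((0) : ℤ) : K) + (f 2 3 + f 3 4 + f 4 5 + f 5 6 + f 6 2) * (((0) : ℤ) : K)
    push_cast
    linear_combination (1) * h.diag 6 + (1) * h.diag 2 + (1) * h.diag 3 + (1) * h.diag 4 + (1) * h.diag 5

end Cfsg.Agent.H931.E6
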